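import Cfsg.Agent.H515.OddM.NegT
import Cfsg.Agent.H129.CycCard
import Cfsg.Agent.H56.Exc.Phi

/-!
# S4785 (TEAM ODDM): `G₂(q)`, `F₄(q)`, `E₈(q)`: the full parts of the regular classes (helper515)

`M` meets every real class of `T`.  Then no primitive prime divisor `r` of `q ^ e - 1` divides `|T : M|` for
`G₂` (`e = 3, 6`), `F₄` (`e = 8, 12`), `E₈` (`e = 15, 20, 24, 30`).
-/

set_option autoImplicit false
set_option linter.unusedSectionVars false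

namespace Cfsg.Agent.H515.OddM

open Cfsg Cfsg.Lie Cfsg.Lie.ChevalleyDatum
open Cfsg.Agent.H436 (Prim exists_prim)
open Cfsg.Agent.ChevalleyStructure Cfsg.Agent.ChevalleyStructure.Elts Cfsg.Agent.ChevalleyStructure.CoxeterGeom
  Cfsg.Agent.ChevalleyStructure.CoxeterGeomTypes Cfsg.Agent.ChevalleyStructure.NPerm
open Cfsg.Agent.Tits.Roots Cfsg.Agent.Tits.Core Cfsg.Agent.Nodes Cfsg.Agent.Nodes.Reps Cfsg.Agent.Nodes.BNOf
  Cfsg.Agent.Nodes.RGDChev Cfsg.Agent.Nodes.Bruhat Cfsg.Agent.Nodes.SubComb Cfsg.Agent.Nodes.Coroot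
open Cfsg.Agent.H129 Cfsg.Agent.H129.CycT Cfsg.Agent.H129.CycCard Cfsg.Agent.H129.TorusChar Cfsg.Agent.H129.TorusTw
  Cfsg.Agent.H129.WData Cfsg.Agent.H129.TorAct Cfsg.Agent.H129.RealT
open Cfsg.Agent.H453.OddM Cfsg.Agent.H56.Exc

universe u

section gen

variable {D : ChevalleyDatum} {l : ℕ} {M : CoxeterMatrix (Fin l)} (hp : IsType D l M)
  {W : Type*} [Group W] (cs : CoxeterSystem M W)

include hp cs in
theorem off_of [Finite W] (hl : 0 < l) {F : Type u} [Field F] [Fintype F] {q : ℕ} (hq : Fintype.card F = q)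
    {B' : Fin l → Fin l → ℤ} (hB : InvC D l 1 B')
    (hneg : ∃ v : W, ∀ a, IsRoot cs hp.isCartan a → rep cs hp.isCartan v a = -a)
    {A : Mat l} (hA : ∀ i j, A i j = cartanOf D l i j) {L : List (Fin l × Mat l)} (hL : ChainOK A L)
    {V B : Mat l} {c : Fin l → ℤ} (hcyc : CycOK l (hd L) V B c) {m : ℕ} {R : Fin m → Fin l → ℤ} {prv dep : ℕ → ℕ}
    (hR : RootOK D l (hd L) R prv dep) {N : ℕ} (hfN : fN c (q : ℤ) = N) (hqN : q.Coprime N) {r : ℕ}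
    (hr : r.Prime) (hrN : r ∣ N) (hg : ¬ r ∣ Nat.card W ∧ ∀ s, ¬ (r : ℤ) ∣ Gq B (q : ℤ) (R s))
    {K : Subgroup ↥(D.group F)} (hK : ∀ x, IsReal x → ∃ g : ↥(D.group F), g * x * g⁻¹ ∈ K) :
    ¬ r ∣ K.index := by
  obtain ⟨T, h1, h2, h3, h4⟩ := neg_T hp cs hl hq hB hneg hA hL hcyc hR hfN hqN
  obtain ⟨y, hy⟩ := h4 r hr hrN hg.1 hg.2
  exact not_dvd_index h1 hr (h2 ▸ hrN) (h3 r hr hg.1 hg.2) (fun x hx _ => ⟨y, hy x hx⟩) hK

end gen

variable {F : Type u} [Field F] [Fintype F] {q : ℕ}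

theorem exists_nat {z : ℤ} (h : 0 ≤ z) : ∃ N : ℕ, (N : ℤ) = z := ⟨z.toNat, Int.toNat_of_nonneg h⟩

/-! ### `G₂` -/

theorem off_G2_3 (hq : Fintype.card F = q) {K : Subgroup ↥(chevG2.group F)}
    (hK : ∀ x, IsReal x → ∃ g : ↥(chevG2.group F), g * x * g⁻¹ ∈ K) {r : ℕ} (hr : Prim q 3 r) : ¬ r ∣ K.index := by
  have : Finite CoxeterMatrix.G₂.Group := Nat.finite_of_card_ne_zero (by rw [cardW_G2]; norm_num)
  have h := prim_dvd_3 hr
  have hlt := prim_lt hr (by norm_num)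
  have hm : ((1 + q + q ^ 2 : ℕ) : ℤ) = 1 + (q : ℤ) + (q : ℤ) ^ 2 := by push_cast; ring
  generalize 1 + q + q ^ 2 = m at hm
  have hrm : r ∣ m := dvd_of_int h (by rw [hm, mul_one])
  exact off_of typeG2 CoxeterMatrix.G₂.toCoxeterSystem (by norm_num) hq TorusChar.invC_G2
    (Cfsg.Agent.H696.GmnNeg.negG2 typeG2 _) DataG2.hA
    DataG2.chainOK DataG2.cycOK DataG2.rootOK (by rw [DataG2.fN_eq, hm])
    (UntwData.coprime_of_eq (a := 1 + (q : ℤ)) (by rw [hm]; ring)) hr.prime hrm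
    (good_G2_3 hm hr.prime hrm (by omega)) hK

theorem off_G2_6 (hq : Fintype.card F = q) {K : Subgroup ↥(chevG2.group F)}
    (hK : ∀ x, IsReal x → ∃ g : ↥(chevG2.group F), g * x * g⁻¹ ∈ K) {r : ℕ} (hr : Prim q 6 r) : ¬ r ∣ K.index := by
  have : Finite CoxeterMatrix.G₂.Group := Nat.finite_of_card_ne_zero (by rw [cardW_G2]; norm_num)
  have h := prim_dvd_6 hr
  have hlt := prim_lt hr (by norm_num)
  obtain ⟨m, hm⟩ := exists_nat (z := 1 - (q : ℤ) + (q : ℤ) ^ 2) (by nlinarith [sq_nonneg ((q : ℤ) - 1)])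
  have hrm : r ∣ m := dvd_of_int h (by rw [hm, mul_one])
  exact off_of typeG2 CoxeterMatrix.G₂.toCoxeterSystem (by norm_num) hq TorusChar.invC_G2
    (Cfsg.Agent.H696.GmnNeg.negG2 typeG2 _) DataG2h.hA
    DataG2h.chainOK DataG2h.cycOK DataG2h.rootOK (by rw [DataG2h.fN_eq, hm])
    (UntwData.coprime_of_eq (a := -1 + (q : ℤ)) (by rw [hm]; ring)) hr.prime hrm
    (good_G2_6 hm hr.prime hrm (by omega)) hK

/-! ### `F₄` -/

theorem off_F4_8 (hq : Fintype.card F = q) {K : Subgroup ↥(chevF4.group F)}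
    (hK : ∀ x, IsReal x → ∃ g : ↥(chevF4.group F), g * x * g⁻¹ ∈ K) {r : ℕ} (hr : Prim q 8 r) : ¬ r ∣ K.index := by
  have : Finite CoxeterMatrix.F₄.Group := Nat.finite_of_card_ne_zero (by rw [cardW_F4]; norm_num)
  have h := prim_dvd_8 hr
  have hlt := prim_lt hr (by norm_num)
  obtain ⟨m, hm⟩ := exists_nat (z := 1 + (q : ℤ) ^ 4) (by positivity)
  have hrm : r ∣ m := dvd_of_int h (by rw [hm, mul_one])
  exact off_of typeF4 CoxeterMatrix.F₄.toCoxeterSystem (by norm_num) hq TorusChar.invC_F4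
    (Cfsg.Agent.H696.GmnNeg.negF4 typeF4 _) DataF4.hA
    DataF4.chainOK DataF4.cycOK DataF4.rootOK (by rw [DataF4.fN_eq, hm])
    (UntwData.coprime_of_eq (a := (q : ℤ) ^ 3) (by rw [hm]; ring)) hr.prime hrm
    (good_F4_8 hm hr.prime hrm (by omega)) hK

theorem off_F4_12 (hq : Fintype.card F = q) {K : Subgroup ↥(chevF4.group F)}
    (hK : ∀ x, IsReal x → ∃ g : ↥(chevF4.group F), g * x * g⁻¹ ∈ K) {r : ℕ} (hr : Prim q 12 r) : ¬ r ∣ K.index := by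
  have : Finite CoxeterMatrix.F₄.Group := Nat.finite_of_card_ne_zero (by rw [cardW_F4]; norm_num)
  have h := prim_dvd_12 hr
  have hlt := prim_lt hr (by norm_num)
  obtain ⟨m, hm⟩ := exists_nat (z := 1 - (q : ℤ) ^ 2 + (q : ℤ) ^ 4)
    (by nlinarith [sq_nonneg ((q : ℤ) ^ 2 - 1)])
  have hrm : r ∣ m := dvd_of_int h (by rw [hm, mul_one])
  exact off_of typeF4 CoxeterMatrix.F₄.toCoxeterSystem (by norm_num) hq TorusChar.invC_F4
    (Cfsg.Agent.H696.GmnNeg.negF4 typeF4 _) DataF4h.hA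
    DataF4h.chainOK DataF4h.cycOK DataF4h.rootOK (by rw [DataF4h.fN_eq, hm])
    (UntwData.coprime_of_eq (a := -(q : ℤ) + (q : ℤ) ^ 3) (by rw [hm]; ring)) hr.prime hrm
    (good_F4_12 hm hr.prime hrm) hK

/-! ### `E₈` -/

theorem off_E8_24 (hq : Fintype.card F = q) {K : Subgroup ↥(chevE8.group F)}
    (hK : ∀ x, IsReal x → ∃ g : ↥(chevE8.group F), g * x * g⁻¹ ∈ K) {r : ℕ} (hr : Prim q 24 r) : ¬ r ∣ K.index := by
  have := finite_W8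
  have h := prim_dvd_24 hr
  have hlt := prim_lt hr (by norm_num)
  obtain ⟨m, hm⟩ := exists_nat (z := 1 - (q : ℤ) ^ 4 + (q : ℤ) ^ 8)
    (by nlinarith [sq_nonneg ((q : ℤ) ^ 4 - 1)])
  have hrm : r ∣ m := dvd_of_int h (by rw [hm, mul_one])
  exact off_of typeE8 CoxeterMatrix.E₈.toCoxeterSystem (by norm_num) hq TorusChar.invC_E8
    (Cfsg.Agent.H696.GmnNeg.negE8 typeE8 _) DataE8c.hA
    DataE8c.chainOK DataE8c.cycOK DataE8c.rootOK (by rw [DataE8c.fN_eq, hm])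
    (UntwData.coprime_of_eq (a := -(q : ℤ) ^ 3 + (q : ℤ) ^ 7) (by rw [hm]; ring)) hr.prime hrm
    (good_E8_24 hm hr.prime hrm) hK

theorem off_E8_20 (hq : Fintype.card F = q) {K : Subgroup ↥(chevE8.group F)}
    (hK : ∀ x, IsReal x → ∃ g : ↥(chevE8.group F), g * x * g⁻¹ ∈ K) {r : ℕ} (hr : Prim q 20 r) : ¬ r ∣ K.index := by
  have := finite_W8
  have h := prim_dvd_20 hr
  have hlt := prim_lt hr (by norm_num)
  obtain ⟨m, hm⟩ := exists_nat (z := 1 - (q : ℤ) ^ 2 + (q : ℤ) ^ 4 - (q : ℤ) ^ 6 + (q : ℤ) ^ 8)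
    (by nlinarith [sq_nonneg ((q : ℤ) ^ 4 - (q : ℤ) ^ 2), sq_nonneg ((q : ℤ) ^ 2 - 1), sq_nonneg ((q : ℤ) ^ 4),
      sq_nonneg ((q : ℤ) ^ 2), sq_nonneg ((q : ℤ) ^ 4 - 1)])
  have hrm : r ∣ m := dvd_of_int h (by rw [hm, mul_one])
  exact off_of typeE8 CoxeterMatrix.E₈.toCoxeterSystem (by norm_num) hq TorusChar.invC_E8
    (Cfsg.Agent.H696.GmnNeg.negE8 typeE8 _) DataE8b.hA
    DataE8b.chainOK DataE8b.cycOK DataE8b.rootOK (by rw [DataE8b.fN_eq, hm])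
    (UntwData.coprime_of_eq (a := -(q : ℤ) + (q : ℤ) ^ 3 - (q : ℤ) ^ 5 + (q : ℤ) ^ 7) (by rw [hm]; ring)) hr.prime hrm
    (good_E8_20 hm hr.prime hrm (by omega)) hK

theorem off_E8_30 (hq : Fintype.card F = q) {K : Subgroup ↥(chevE8.group F)}
    (hK : ∀ x, IsReal x → ∃ g : ↥(chevE8.group F), g * x * g⁻¹ ∈ K) {r : ℕ} (hr : Prim q 30 r) : ¬ r ∣ K.index := by
  have := finite_W8
  have h2 : 2 ≤ q := hq ▸ Fintype.one_lt_card
  have h := prim_dvd_30 hr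
  have hpos : (0 : ℤ) ≤ 1 + (q : ℤ) - (q : ℤ) ^ 3 - (q : ℤ) ^ 4 - (q : ℤ) ^ 5 + (q : ℤ) ^ 7 + (q : ℤ) ^ 8 := by
    obtain ⟨a, rfl⟩ := Nat.exists_eq_add_of_le' h2
    push_cast
    ring_nf
    positivity
  obtain ⟨m, hm⟩ := exists_nat hpos
  have hrm : r ∣ m := dvd_of_int h (by rw [hm, mul_one])
  exact off_of typeE8 CoxeterMatrix.E₈.toCoxeterSystem (by norm_num) hq TorusChar.invC_E8
    (Cfsg.Agent.H696.GmnNeg.negE8 typeE8 _) DataE8.hA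
    DataE8.chainOK DataE8.cycOK DataE8.rootOK (by rw [DataE8.fN_eq, hm])
    (UntwData.coprime_of_eq (a := 1 - (q : ℤ) ^ 2 - (q : ℤ) ^ 3 - (q : ℤ) ^ 4 + (q : ℤ) ^ 6 + (q : ℤ) ^ 7)
      (by rw [hm]; ring)) hr.prime hrm (good_E8_30 hm hr.prime hrm) hK

theorem off_E8_15 (hq : Fintype.card F = q) {K : Subgroup ↥(chevE8.group F)}
    (hK : ∀ x, IsReal x → ∃ g : ↥(chevE8.group F), g * x * g⁻¹ ∈ K) {r : ℕ} (hr : Prim q 15 r) : ¬ r ∣ K.index := by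
  have := finite_W8
  have h2 : 2 ≤ q := hq ▸ Fintype.one_lt_card
  have h := prim_dvd_15 hr
  have hpos : (0 : ℤ) ≤ 1 - (q : ℤ) + (q : ℤ) ^ 3 - (q : ℤ) ^ 4 + (q : ℤ) ^ 5 - (q : ℤ) ^ 7 + (q : ℤ) ^ 8 := by
    obtain ⟨a, rfl⟩ := Nat.exists_eq_add_of_le' h2
    push_cast
    ring_nf
    positivity
  obtain ⟨m, hm⟩ := exists_nat hpos
  have hrm : r ∣ m := dvd_of_int h (by rw [hm, mul_one])
  exact off_of typeE8 CoxeterMatrix.E₈.toCoxeterSystem (by norm_num) hq TorusChar.invC_E8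
    (Cfsg.Agent.H696.GmnNeg.negE8 typeE8 _) DataE8a.hA
    DataE8a.chainOK DataE8a.cycOK DataE8a.rootOK (by rw [DataE8a.fN_eq, hm])
    (UntwData.coprime_of_eq (a := -1 + (q : ℤ) ^ 2 - (q : ℤ) ^ 3 + (q : ℤ) ^ 4 - (q : ℤ) ^ 6 + (q : ℤ) ^ 7)
      (by rw [hm]; ring)) hr.prime hrm (good_E8_15 hm hr.prime hrm) hK

end Cfsg.Agent.H515.OddM
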