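import Cfsg.Agent.H515.OddM.E7
import Cfsg.Agent.H453.OddM.Asm
import Cfsg.Agent.H563.KG.KE7

/-!
# S4785 (TEAM ODDM): the row `E₇(q)`, `q` odd (helper515)
-/

set_option autoImplicit false

namespace Cfsg.Agent.H515.OddM

open Cfsg Cfsg.Lie Cfsg.Agent.OrdDiv Cfsg.Agent.H436 Cfsg.Agent.H453.OddM Cfsg.Agent.H563.KG Cfsg.Agent.H56.Exc

universe u

theorem odd_of_not {q : ℕ} (h : ¬ 2 ∣ q) : Odd q := Nat.not_even_iff_odd.1 fun h1 => h (even_iff_two_dvd.1 h1)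

/-- **The row `E₇(q)`, `q` odd.** -/
theorem row_e7_of (tb : OrderTable.{0}) (hcyc : CycFixSolv.{0}) (hcf : CF) (q : ℕ) (hq : ¬ 2 ∣ q) :
    RowN.{u} (.e7 q) := by
  intro T _ _ _ h
  obtain ⟨F, _, _, hF, ⟨e⟩⟩ := h.real
  refine (Row.congr e.symm fun R hR => ?_).row8
  subst hF
  exact K_E7b tb hcyc hcf R (e7_off (odd_of_not hq) hR.cov.2)

end Cfsg.Agent.H515.OddM
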