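import Cfsg.Agent.H515.OddM.NegRows
import Cfsg.Agent.H453.OddM.Asm
import Cfsg.Agent.H563.KG.KF4
import Cfsg.Agent.H563.KG.KE8

/-!
# S4785 (TEAM ODDM): the rows `F₄(q)`, `E₈(q)`, all `q` (helper515)
-/

set_option autoImplicit false

namespace Cfsg.Agent.H515.OddM

open Cfsg Cfsg.Lie Cfsg.Agent.OrdDiv Cfsg.Agent.H436 Cfsg.Agent.H453.OddM Cfsg.Agent.H563.KG Cfsg.Agent.H56.Exc

universe u

/-- **The row `F₄(q)`** (all `q`). -/
theorem row_f4_of (tb : OrderTable.{0}) (hcyc : CycFixSolv.{0}) (hcf : CF) (q : ℕ) : RowN.{u} (.f4 q) := by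
  intro T _ _ _ h
  obtain ⟨F, _, _, hF, ⟨e⟩⟩ := h.real
  refine (Row.congr e.symm fun R hR => ?_).row8
  refine K_F4 tb hcyc hcf R fun e he r hr => ?_
  simp only [List.mem_cons, List.not_mem_nil, or_false] at he
  rcases he with rfl | rfl
  · exact off_F4_12 rfl hR.cov.2 hr
  · exact off_F4_8 rfl hR.cov.2 hr

/-- **The row `E₈(q)`** (all `q`). -/
theorem row_e8_of (tb : OrderTable.{0}) (hcyc : CycFixSolv.{0}) (hcf : CF) (q : ℕ) : RowN.{u} (.e8 q) := by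
  intro T _ _ _ h
  obtain ⟨F, _, _, hF, ⟨e⟩⟩ := h.real
  refine (Row.congr e.symm fun R hR => ?_).row8
  refine K_E8 tb hcyc hcf R fun e he r hr => ?_
  simp only [List.mem_cons, List.not_mem_nil, or_false] at he
  rcases he with rfl | rfl
  · exact off_E8_20 rfl hR.cov.2 hr
  · exact off_E8_24 rfl hR.cov.2 hr

end Cfsg.Agent.H515.OddM
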