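import Cfsg.Agent.H453.OddM.Defs

/-!
# S4785 (TEAM ODDM), exceptional groups, `q` odd: cyclic tori all of whose `r`-elements are real (helper515)
-/

set_option autoImplicit false

namespace Cfsg.Agent.H515.OddM

open Cfsg.Agent.H453.OddM

/-- A cyclic subgroup containing the centralisers of its elements of order `r` contains a Sylow `r`-subgroup. -/
theorem sylow_le_of_cent {G : Type*} [Group G] [Finite G] {T : Subgroup G} {r : ℕ} (hr : r.Prime)
    (hrT : r ∣ Nat.card ↥T) (hcent : ∀ y ∈ T, orderOf y = r → Subgroup.centralizer {y} ≤ T) :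
    ∃ P : Sylow r G, (P : Subgroup G) ≤ T := by
  have := Fact.mk hr
  obtain ⟨⟨x, hxT⟩, hx⟩ := exists_prime_orderOf_dvd_card' (G := ↥T) r hrT
  rw [Subgroup.orderOf_mk] at hx
  have hpx : IsPGroup r ↥(Subgroup.zpowers x) := by
    refine IsPGroup.of_card (n := 1) ?_
    rw [Nat.card_zpowers, hx, pow_one]
  obtain ⟨P, hP⟩ := hpx.exists_le_sylow
  refine ⟨P, ?_⟩
  have hxP : x ∈ (P : Subgroup G) := hP (Subgroup.mem_zpowers x)
  have hnt : Nontrivial ↥(P : Subgroup G) := by
    refine ⟨⟨⟨x, hxP⟩, 1, fun h => ?_⟩⟩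
    have h1 : x = 1 := congrArg Subtype.val h
    rw [h1, orderOf_one] at hx
    exact hr.one_lt.ne hx
  have hz := P.2.center_nontrivial
  have hcz : r ∣ Nat.card ↥(Subgroup.center ↥(P : Subgroup G)) := by
    have h1 : IsPGroup r ↥(Subgroup.center ↥(P : Subgroup G)) := P.2.to_subgroup _
    obtain ⟨n, hn⟩ := IsPGroup.iff_card.1 h1
    rw [hn]
    rcases Nat.eq_zero_or_pos n with rfl | h0
    · rw [pow_zero] at hn
      exact absurd hn (Finite.one_lt_card).ne'
    · exact dvd_pow_self r h0.ne'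
  obtain ⟨⟨z, hzc⟩, hzr⟩ := exists_prime_orderOf_dvd_card' (G := ↥(Subgroup.center ↥(P : Subgroup G))) r hcz
  rw [Subgroup.orderOf_mk] at hzr
  have hz1 : orderOf (z : G) = r := by rw [Subgroup.orderOf_coe]; exact hzr
  have hzT : (z : G) ∈ T := by
    refine hcent x hxT hx ?_
    rw [Subgroup.mem_centralizer_singleton_iff]
    have h1 := Subgroup.mem_center_iff.1 hzc ⟨x, hxP⟩
    exact (congrArg Subtype.val h1).symm
  intro y hy
  refine hcent z hzT hz1 ?_
  rw [Subgroup.mem_centralizer_singleton_iff]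
  exact congrArg Subtype.val (Subgroup.mem_center_iff.1 hzc ⟨y, hy⟩)

/-- **The full `r`-part**: if the `r`-elements of a cyclic torus are real, `r` does not divide the index of `M`. -/
theorem not_dvd_index {G : Type*} [Group G] [Finite G] {T : Subgroup G} (hc : IsCyclic ↥T) {r : ℕ} (hr : r.Prime)
    (hrT : r ∣ Nat.card ↥T) (hcent : ∀ y ∈ T, orderOf y = r → Subgroup.centralizer {y} ≤ T)
    (hreal : ∀ x ∈ T, (∃ k, orderOf x = r ^ k) → IsReal x) {M : Subgroup G}
    (hM : ∀ x : G, IsReal x → ∃ g : G, g * x * g⁻¹ ∈ M) : ¬ r ∣ M.index := by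
  have := Fact.mk hr
  obtain ⟨P, hPT⟩ := sylow_le_of_cent hr hrT hcent
  have hPc : IsCyclic ↥(P : Subgroup G) := by
    have h1 : IsCyclic ↥((P : Subgroup G).subgroupOf T) := inferInstance
    exact (Subgroup.subgroupOfEquivOfLe hPT).isCyclic.1 h1
  obtain ⟨⟨s, hs⟩, hgen⟩ := hPc.exists_generator
  have hso : orderOf s = Nat.card ↥(P : Subgroup G) := by
    have h1 := orderOf_eq_card_of_forall_mem_zpowers hgen
    rwa [Subgroup.orderOf_mk] at h1
  obtain ⟨n, hn⟩ := IsPGroup.iff_card.1 P.2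
  obtain ⟨g, hg⟩ := hM s (hreal s (hPT hs) ⟨n, by rw [hso, hn]⟩)
  have h2 : Nat.card ↥(P : Subgroup G) ∣ Nat.card ↥M := by
    have h3 : orderOf (⟨g * s * g⁻¹, hg⟩ : ↥M) = Nat.card ↥(P : Subgroup G) := by
      rw [← Subgroup.orderOf_coe, ← hso]
      exact orderOf_injective (MulAut.conj g).toMonoidHom (MulAut.conj g).injective s
    rw [← h3]
    exact orderOf_dvd_natCard _
  intro hd
  obtain ⟨m, hm⟩ := h2
  have h4 : Nat.card ↥(P : Subgroup G) * (P : Subgroup G).index = Nat.card G := Subgroup.card_mul_index _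
  have h5 : Nat.card ↥M * M.index = Nat.card G := Subgroup.card_mul_index _
  have h6 : (P : Subgroup G).index = m * M.index := by
    refine Nat.eq_of_mul_eq_mul_left (Nat.card_pos (α := ↥(P : Subgroup G))) ?_
    rw [h4, ← h5, hm, mul_assoc]
  exact P.not_dvd_index (h6 ▸ hd.mul_left m)

end Cfsg.Agent.H515.OddM
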