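import Cfsg.Agent.H515.OddM.Base
import Cfsg.Agent.H290.ElE7t
import Cfsg.Agent.H563.KG.Core

/-!
# S4785 (TEAM ODDM), `E₇(q)`, `q` odd: the full parts of the classes 7 and 18 (helper515)
-/

set_option autoImplicit false

namespace Cfsg.Agent.H515.OddM

open Cfsg Cfsg.Lie Cfsg.Lie.ChevalleyDatum Cfsg.Agent.H290.ElMain Cfsg.Agent.H290.ElE7
open Cfsg.Agent.H436 (Prim exists_prim)
open Cfsg.Agent.ChevalleyStructure Cfsg.Agent.ChevalleyStructure.Elts Cfsg.Agent.ChevalleyStructure.CoxeterGeom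
  Cfsg.Agent.ChevalleyStructure.CoxeterGeomTypes Cfsg.Agent.ChevalleyStructure.NPerm
open Cfsg.Agent.Nodes.RGDChev
open Cfsg.Agent.H129 Cfsg.Agent.H129.CycT Cfsg.Agent.H129.TorusChar Cfsg.Agent.H129.TorusTw Cfsg.Agent.H129.WData
  Cfsg.Agent.H129.TorAct Cfsg.Agent.H129.RealT
open Cfsg.Agent.H453.OddM

section E7

variable {F : Type} [Field F] [Fintype F] {q : ℕ}

theorem e7_of (hq : Fintype.card F = q) (ho : Odd q) {A : Mat 7} (hA : ∀ i j, A i j = cartanOf chevE7 7 i j)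
    {L : List (Fin 7 × Mat 7)} (hL : ChainOK A L)
    {V B : Mat 7} {c : Fin 7 → ℤ} (hcyc : CycOK 7 (hd L) V B c) {m : ℕ} {R : Fin m → Fin 7 → ℤ} {prv dep : ℕ → ℕ}
    (hR : RootOK chevE7 7 (hd L) R prv dep) {N : ℕ} (hfN : fN c (q : ℤ) = N) (hqN : q.Coprime N) {r : ℕ}
    (hr : r.Prime) (hrN : r ∣ N) (hr2 : r ≠ 2)
    (hgood : ¬ r ∣ Nat.card CoxeterMatrix.E₇.Group ∧ ∀ s, ¬ (r : ℤ) ∣ Gq B (q : ℤ) (R s))
    {M : Subgroup ↥(chevE7.group F)} (hM : ∀ x, IsReal x → ∃ g : ↥(chevE7.group F), g * x * g⁻¹ ∈ M) :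
    ¬ r ∣ M.index := by
  have := finite_W7
  obtain ⟨T, h3, h4, h5, h6⟩ := HalfT.half_E7 hq ho typeE7 hA hL hcyc hR hfN hqN
  obtain ⟨y, hy⟩ := h6 ⟨r, hr, hrN, hgood.1, hgood.2⟩
  refine not_dvd_index h3 hr ?_ (h5 r hr hgood.1 hgood.2) (fun x hx _ => ⟨y, hy x hx⟩) hM
  rw [← h4] at hrN
  exact (hr.dvd_mul.1 hrN).resolve_left fun h => hr2 ((Nat.prime_dvd_prime_iff_eq hr Nat.prime_two).1 h)

theorem e7_off7 (hq : Fintype.card F = q) (ho : Odd q) {M : Subgroup ↥(chevE7.group F)}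
    (hM : ∀ x, IsReal x → ∃ g : ↥(chevE7.group F), g * x * g⁻¹ ∈ M) {r : ℕ} (hr : Prim q 7 r) : ¬ r ∣ M.index := by
  have h2 : 2 ≤ q := hq ▸ Fintype.one_lt_card
  have hN := Int.toNat_of_nonneg (show (0 : ℤ) ≤ 1 + (q : ℤ) + (q : ℤ) ^ 2 + (q : ℤ) ^ 3 + (q : ℤ) ^ 4 + (q : ℤ) ^ 5 +
    (q : ℤ) ^ 6 by positivity)
  have hrN : r ∣ _ := dvd_of_id hr (by omega) (a := 1) (b := 1) (c := 1) (by decide) (by decide) (by decide)
    (by rw [hN]; exact ⟨((q : ℤ) - 1) ^ 2, by ring⟩)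
  obtain ⟨k, hk⟩ := mod_of_prim hr (by omega)
  have := hr.prime.two_le
  have := hr.odd (by norm_num)
  obtain ⟨h3, h4⟩ := fN_7 h2 hN
  exact e7_of hq ho DataE7s.hA DataE7s.chainOK DataE7s.cycOK DataE7s.rootOK h3 h4 hr.prime (hrN.mul_left _) (by omega)
    (good_E7_7 hN hr.prime hrN (by omega)) hM

theorem e7_off18 (hq : Fintype.card F = q) (ho : Odd q) {M : Subgroup ↥(chevE7.group F)}
    (hM : ∀ x, IsReal x → ∃ g : ↥(chevE7.group F), g * x * g⁻¹ ∈ M) {r : ℕ} (hr : Prim q 18 r) : ¬ r ∣ M.index := by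
  have h2 : 2 ≤ q := hq ▸ Fintype.one_lt_card
  have hpos : (0 : ℤ) ≤ 1 - (q : ℤ) ^ 3 + (q : ℤ) ^ 6 := by
    obtain ⟨a, rfl⟩ := Nat.exists_eq_add_of_le' h2
    push_cast
    ring_nf
    positivity
  have hN := Int.toNat_of_nonneg hpos
  have hrN : r ∣ _ := dvd_of_id hr (by omega) (a := 9) (b := 6) (c := 1) (by decide) (by decide) (by decide)
    (by rw [hN]; exact ⟨((q : ℤ) ^ 3 - 1) * ((q : ℤ) - 1), by ring⟩)
  obtain ⟨k, hk⟩ := mod_of_prim hr (by omega)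
  have := hr.prime.two_le
  have := hr.odd (by norm_num)
  refine e7_of hq ho DataE7h.hA DataE7h.chainOK DataE7h.cycOK DataE7h.rootOK (N := (q + 1) * _) ?_ ?_ hr.prime
    (hrN.mul_left _) (by omega) (good_18 hN hr.prime hrN (by omega)) hM
  · rw [DataE7h.fN_eq, Nat.cast_mul, hN]; push_cast; ring
  · exact UntwData.coprime_of_eq (a := 1 - (q : ℤ) ^ 2 - (q : ℤ) ^ 3 + (q : ℤ) ^ 5 + (q : ℤ) ^ 6)
      (by rw [Nat.cast_mul, hN]; push_cast; ring)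

/-- the classes 7 and 18 -/
theorem e7_off (ho : Odd (Fintype.card F)) {M : Subgroup ↥(chevE7.group F)}
    (hM : ∀ x, IsReal x → ∃ g : ↥(chevE7.group F), g * x * g⁻¹ ∈ M) :
    Cfsg.Agent.H563.KG.Off (Fintype.card F) [18, 7] M := by
  intro e he r hr
  simp only [List.mem_cons, List.not_mem_nil, or_false] at he
  rcases he with rfl | rfl
  · exact e7_off18 rfl ho hM hr
  · exact e7_off7 rfl ho hM hr

end E7

end Cfsg.Agent.H515.OddM
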