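import Cfsg.Agent.H515.OddM.Base
import Cfsg.Agent.H129.UntwT
import Cfsg.Agent.H696.GmnNeg

/-!
# S4785 (TEAM ODDM): the cyclic tori of `G₂(q)`, `F₄(q)`, `E₈(q)` are inverted (helper515)

`neg_T` : if `-1` lies in the Weyl group and the centre of the simply connected group is trivial, the cyclic torus
`T` of order `N` is inverted by an element of the finite group.
-/

set_option autoImplicit false
set_option linter.unusedSectionVars false

namespace Cfsg.Agent.H515.OddM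

open CoxeterSystem Cfsg Cfsg.Lie Cfsg.Lie.ChevalleyDatum
open Cfsg.Agent.ChevalleyStructure Cfsg.Agent.ChevalleyStructure.Elts Cfsg.Agent.ChevalleyStructure.CoxeterGeom
  Cfsg.Agent.ChevalleyStructure.CoxeterGeomTypes Cfsg.Agent.ChevalleyStructure.NPerm
open Cfsg.Agent.Tits.Roots Cfsg.Agent.Tits.Core Cfsg.Agent.Nodes Cfsg.Agent.Nodes.Reps Cfsg.Agent.Nodes.BNOf
  Cfsg.Agent.Nodes.RGDChev Cfsg.Agent.Nodes.Bruhat Cfsg.Agent.Nodes.SubComb Cfsg.Agent.Nodes.Coroot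
open Cfsg.Agent.KFacts.RgdField Cfsg.Agent.KFacts.RgdChevCoord Cfsg.Agent.BpExc.TorCent Cfsg.Agent.BpExc.TorChev
open Cfsg.Agent.GpExc.Field Cfsg.Agent.BpExc.Tow Cfsg.Agent.BpExc.TowChev Cfsg.Agent.BpExc.Fr
  Cfsg.Agent.BpExc.LangFr Cfsg.Agent.LangThm Cfsg.Agent.BpExc Cfsg.Agent.H129.TorusChar Cfsg.Agent.H129.TorusCent
  Cfsg.Agent.H129.TorusTw Cfsg.Agent.H129.TorusMain Cfsg.Agent.H129.TorusUntw Cfsg.Agent.H129.TorAct
  Cfsg.Agent.H129.WData Cfsg.Agent.H129.UntwTwo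

universe u

variable {D : ChevalleyDatum} {l : ℕ} {M : CoxeterMatrix (Fin l)} (hp : IsType D l M)
  {W : Type*} [Group W] (cs : CoxeterSystem M W)

/-- from the roots to the lattice -/
theorem neg_all {v : W} (hv : ∀ a, IsRoot cs hp.isCartan a → rep cs hp.isCartan v a = -a) (x : Fin l → ℤ) :
    rep cs hp.isCartan v x = -x := by
  have h1 : rep cs hp.isCartan v = -LinearMap.id := by
    refine (Pi.basisFun ℤ (Fin l)).ext fun i => ?_
    have h2 : (Pi.basisFun ℤ (Fin l)) i = sr i := by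
      rw [Pi.basisFun_apply]
      rfl
    rw [h2, LinearMap.neg_apply, LinearMap.id_apply]
    exact hv _ (isRoot_sr cs hp.isCartan i)
  rw [h1]
  rfl

include hp cs in
/-- **The inverted cyclic tori.** -/
theorem neg_T [Finite W] (hl : 0 < l) {F : Type u} [Field F] [Fintype F] {q : ℕ} (hq : Fintype.card F = q)
    {B' : Fin l → Fin l → ℤ} (hB : InvC D l 1 B')
    (hneg : ∃ v : W, ∀ a, IsRoot cs hp.isCartan a → rep cs hp.isCartan v a = -a)
    {A : Mat l} (hA : ∀ i j, A i j = cartanOf D l i j) {L : List (Fin l × Mat l)} (hL : ChainOK A L)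
    {V B : Mat l} {c : Fin l → ℤ} (hcyc : CycOK l (hd L) V B c) {m : ℕ} {R : Fin m → Fin l → ℤ} {prv dep : ℕ → ℕ}
    (hR : RootOK D l (hd L) R prv dep) {N : ℕ} (hfN : fN c (q : ℤ) = N) (hqN : q.Coprime N) :
    ∃ T : Subgroup ↥(D.group F), IsCyclic ↥T ∧ Nat.card ↥T = N ∧
      (∀ r : ℕ, r.Prime → ¬ r ∣ Nat.card W → (∀ s, ¬ (r : ℤ) ∣ Gq B (q : ℤ) (R s)) → ∀ y ∈ T, orderOf y = r →
        Subgroup.centralizer {y} ≤ T) ∧
      (∀ r : ℕ, r.Prime → r ∣ N → ¬ r ∣ Nat.card W → (∀ s, ¬ (r : ℤ) ∣ Gq B (q : ℤ) (R s)) →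
        ∃ y : ↥(D.group F), ∀ b ∈ T, y * b * y⁻¹ = b⁻¹) := by
  obtain ⟨v, hv⟩ := hneg
  have hv := neg_all hp cs hv
  have hlin := lin_refl hp cs hA hL
  have hc := cyc_of hlin hcyc
  obtain ⟨p, e, hpF, hpc, hpk, he, rfl, hk⟩ := exists_closure hq
  have hpN : ¬ p ∣ N := fun h1 => by
    have h2 : p ∣ Nat.gcd (p ^ e) N := Nat.dvd_gcd (dvd_pow_self p he.ne') h1
    rw [hqN] at h2
    exact hpF.out.one_lt.ne' (Nat.dvd_one.1 h2)
  have hN0 : N ≠ 0 := fun h0 => hpN (by rw [h0]; exact dvd_zero p)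
  have hN1 : 1 ≤ N := Nat.pos_of_ne_zero hN0
  have hd : ∀ y : ↥(D.group (AlgebraicClosure F)), phi D (AlgebraicClosure F) p e y = y →
      y ^ 1 ∈ (emb hp.inList (algebraMap F (AlgebraicClosure F))).range := by
    intro y hy
    rw [pow_one]
    exact fix_range hp cs _ hq hB one_ne_zero (fun a => ⟨a, pow_one a⟩) hy
  obtain ⟨T, h1, h2, h3, h4, h5, -⟩ := exists_T (k := AlgebraicClosure F) (hp := hp) (cs := cs) hl hk
    (hN := nsys_of_locFin hp cs hk p) he isFrob_phi (fr_phi hp cs) hB one_ne_zero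
    (w := cs.wordProd (L.map Prod.fst)) hc hfN hpN
    (e0 := emb hp.inList (algebraMap F (AlgebraicClosure F))) (emb_injective hp.inList _) (phi_emb hp _ hq) hd
  have hgood : ∀ r : ℕ, r.Prime → r ∣ N → (∀ s, ¬ (r : ℤ) ∣ Gq B ((p ^ e : ℕ) : ℤ) (R s)) →
      ∀ a, IsRoot cs hp.isCartan a → ¬ (r : ℤ) ∣ Gq B ((p ^ e : ℕ) : ℤ) a := fun r hr hrN hG a ha =>
    not_dvd_G hp cs hlin hc hR hfN hr hrN hqN hG ha
  rw [one_mul] at h3
  have hTN : Nat.card ↥T = N := Nat.dvd_antisymm h2 h3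
  refine ⟨T, h1, hTN, ?_, ?_⟩
  · intro r hr hrW hG y hy hyr
    have hrN : r ∣ N := by
      rw [← hyr]
      refine dvd_trans ?_ h2
      have := orderOf_dvd_natCard (⟨y, hy⟩ : ↥T)
      rwa [Subgroup.orderOf_mk] at this
    exact h4 r hr hrW (hgood r hr hrN hG) y hy hyr
  · intro r hr hrN hrW hG
    obtain ⟨y, hy⟩ := h5 r hr hrN hrW (hgood r hr hrN hG) v (N - 1)
      (fun x => by rw [hv, hv, map_neg])
      (fun x => by
        have h5 : Gq B ((p ^ e : ℕ) : ℤ) (-x) = - Gq B ((p ^ e : ℕ) : ℤ) x := by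
          have h6 := Gq_add B ((p ^ e : ℕ) : ℤ) x (-x)
          rw [add_neg_cancel, Gq_zero] at h6
          linarith
        rw [hv, h5, Nat.cast_sub hN1]
        exact ⟨-Gq B ((p ^ e : ℕ) : ℤ) x, by push_cast; ring⟩)
    refine ⟨y, fun b hb => ?_⟩
    have h6 := hy b hb
    have hbN : b ^ N = 1 := by
      have h7 : (⟨b, hb⟩ : ↥T) ^ Nat.card ↥T = 1 := pow_card_eq_one'
      rw [hTN] at h7
      exact congrArg Subtype.val h7
    have h8 : b ^ (N - 1) = b⁻¹ := by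
      rw [eq_inv_iff_mul_eq_one, ← pow_succ, Nat.sub_add_cancel hN1, hbN]
    rw [pow_one, h8] at h6
    calc y * b * y⁻¹ = (y * b⁻¹ * y⁻¹)⁻¹ := by group
      _ = b⁻¹ := by rw [h6]

end Cfsg.Agent.H515.OddM
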